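import Mathlib
import Groth.Prelude.Def_KRR
import Groth.Agent.Lib.Lead.QC.LiftSqZero

/-!
# Functoriality of `K₀` of a full subcategory, and the pull-back on `K₀` of vector bundles
-/

set_option autoImplicit false
universe v₁ v₂ u₁ u₂ u
open CategoryTheory CategoryTheory.Limits AlgebraicGeometry

namespace Groth.Agent.LD.KV

open KZero

section General

variable {A : Type u₁} [Category.{v₁} A] [Abelian A] {B : Type u₂} [Category.{v₂} B] [Abelian B]

/-- additivity of classes on short exact sequences with terms in `P`. -/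
theorem clSub_shortExact (P : ObjectProperty A) (S : ShortComplex A) (hS : S.ShortExact)
    (h₁ : P S.X₁) (h₂ : P S.X₂) (h₃ : P S.X₃) :
    clSub P S.X₂ = clSub P S.X₁ + clSub P S.X₃ := by
  unfold clSub
  rw [dif_pos h₁, dif_pos h₂, dif_pos h₃]
  rw [← sub_eq_zero, ← sub_sub]
  rw [← QuotientAddGroup.mk_sub, ← QuotientAddGroup.mk_sub]
  rw [QuotientAddGroup.eq_zero_iff]
  exact AddSubgroup.subset_closure ⟨S, h₁, h₂, h₃, hS, rfl⟩

theorem clSub_of (P : ObjectProperty A) (X : A) (h : P X) :
    clSub P X = QuotientAddGroup.mk (FreeAbelianGroup.of (⟨X, h⟩ : Subtype P)) := by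
  unfold clSub
  rw [dif_pos h]

/-- induction principle for `K0sub`. -/
theorem K0sub_induction (P : ObjectProperty A) {motive : K0sub P → Prop}
    (zero : motive 0) (cl : ∀ (X : A) (_ : P X), motive (clSub P X))
    (add : ∀ a b, motive a → motive b → motive (a + b)) (neg : ∀ a, motive a → motive (-a))
    (x : K0sub P) : motive x := by
  induction x using QuotientAddGroup.induction_on with
  | H z =>
    refine FreeAbelianGroup.induction_on z ?_ ?_ ?_ ?_
    · exact zero
    · intro a
      have := cl a.1 a.2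
      rw [clSub_of P a.1 a.2] at this
      exact this
    · intro a ih
      exact neg _ ih
    · intro a b iha ihb
      exact add _ _ iha ihb

/-- the map on `K₀` induced by a functor preserving the subcategories and their short exact sequences. -/
noncomputable def mapK (P : ObjectProperty A) (Q : ObjectProperty B) (F : A ⥤ B) [F.PreservesZeroMorphisms]
    (hPQ : ∀ X, P X → Q (F.obj X))
    (hex : ∀ S : ShortComplex A, S.ShortExact → P S.X₁ → P S.X₂ → P S.X₃ → (S.map F).ShortExact) :
    K0sub P →+ K0sub Q :=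
  QuotientAddGroup.lift (relSub P)
    (FreeAbelianGroup.lift (fun X : Subtype P => clSub Q (F.obj X.1)))
    (by
      refine (AddSubgroup.closure_le _).2 ?_
      rintro x ⟨S, h₁, h₂, h₃, hS, rfl⟩
      have h := clSub_shortExact Q (S.map F) (hex S hS h₁ h₂ h₃) (hPQ _ h₁) (hPQ _ h₂) (hPQ _ h₃)
      change clSub Q (F.obj S.X₂) = clSub Q (F.obj S.X₁) + clSub Q (F.obj S.X₃) at h
      rw [SetLike.mem_coe, AddMonoidHom.mem_ker, map_sub, map_sub, FreeAbelianGroup.lift_apply_of,
        FreeAbelianGroup.lift_apply_of, FreeAbelianGroup.lift_apply_of, h]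
      abel)

theorem mapK_clSub (P : ObjectProperty A) (Q : ObjectProperty B) (F : A ⥤ B) [F.PreservesZeroMorphisms]
    (hPQ : ∀ X, P X → Q (F.obj X))
    (hex : ∀ S : ShortComplex A, S.ShortExact → P S.X₁ → P S.X₂ → P S.X₃ → (S.map F).ShortExact)
    (X : A) (h : P X) :
    mapK P Q F hPQ hex (clSub P X) = clSub Q (F.obj X) := by
  rw [clSub_of P X h]
  unfold mapK
  rw [QuotientAddGroup.lift_mk, FreeAbelianGroup.lift_apply_of]

end General

/-- the pullback of a short exact sequence with finite locally free cokernel is short exact. -/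
theorem shortExact_pullback {Y Z : Scheme.{u}} (f : Z ⟶ Y) {S : ShortComplex Y.Modules}
    (hS : S.ShortExact) (hE : FlatMod.IsFinLocFree S.X₃) :
    (S.map (Scheme.Modules.pullback f)).ShortExact :=
  haveI hm : Mono ((Scheme.Modules.pullback f).map S.f) :=
    Groth.Agent.LD.QC.LiftSqZero.mono_pullback_map_of_shortExact f hS hE
  { exact := hS.exact.map_of_epi_of_preservesCokernel (Scheme.Modules.pullback f)
      hS.epi_g inferInstance
    mono_f := hm
    epi_g := by
      haveI := hS.epi_g
      exact (Scheme.Modules.pullback f).map_epi _ }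

/-- the pull-back `f^K : K(Y) → K(X)` on `K₀` of vector bundles. -/
noncomputable def pullK {X Y : Scheme.{u}} (f : X ⟶ Y) : SGA6.Kvb Y →+ SGA6.Kvb X :=
  mapK (KRR.vbP Y) (KRR.vbP X) (Scheme.Modules.pullback f)
    (fun E hE => Groth.Agent.LD.QC.isFinLocFree_pullback f E hE)
    (fun _ hS _ _ h₃ => shortExact_pullback f hS h₃)

theorem pullK_cl {X Y : Scheme.{u}} (f : X ⟶ Y) (E : Y.Modules) (hE : FlatMod.IsFinLocFree E) :
    pullK f (KRR.cl Y E) = KRR.cl X ((Scheme.Modules.pullback f).obj E) :=
  mapK_clSub _ _ _ _ _ E hE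

end Groth.Agent.LD.KV
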